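import Mathlib
import Cfsg.Agent.Lib.helper7.BR.Defs

/-!
# Project B43 (Brauer 1943, S0996): definitions

`G` perfect, `z` of prime order `p` with `C_G(z) = ⟨z⟩`, `|Syl_p(G)| = 1 + n p` with `2 n ≤ p + 2`
⟹ `|G| < p ^ 3`, so S4701 (Brauer–Reynolds, project BR) gives `G ≅ PSL(2,p)` or `SL(2,2^m)`, `p = 2^m + 1`.

`Setting2` / `CharData2` generalise `Setting` / `CharData` of project BR (`helper7/BR/Defs.lean`):
the index of `N_G(P)` is `1 + n p` with `n + 1 = v t` and the exceptional degree is `v p - q`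
(BR is the case `v = 1`).  `nrm`, `cen`, `permChar`, `conjSub`, `Compl`, `nrmH`, `rest` are those of BR.
-/

set_option autoImplicit false

namespace Cfsg.Agent.Lib.Helper13.B43

open Classical
open Cfsg.Agent.Lib.Helper25
open Cfsg.Agent.Lib.helper7.BR

variable {G : Type*} [Group G]

/-- The group-theoretic setting: `|P| = p`, `C_G(P) = P`, `|N_G(P)| = p q`, `|G : N_G(P)| = 1 + n p`,
`q t = p - 1`, `t ≥ 2`, `q ≥ 2`, `n ≥ 1`. -/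
structure Setting2 (p : ℕ) (P : Sylow p G) (q t n : ℕ) : Prop where
  prime : p.Prime
  cardP : Nat.card (P : Subgroup G) = p
  cent : cen P = (P : Subgroup G)
  cardN : Nat.card (nrm P) = p * q
  index : (nrm P).index = 1 + n * p
  qt : q * t = p - 1
  ht : 2 ≤ t
  hq : 2 ≤ q
  hn : 1 ≤ n

/-- The character data of the branch `ε = -1`: the irreducible characters of degree prime to `p` are `1`,
the members of `Xp` (degree `1 + n p`, value `1` on `P ∖ 1`), of `Xm` (degree `p - 1`, value `-1` on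
`P ∖ 1`) and of `Y` (`t` characters of degree `v p - q` whose sum over `P` is `v p`, whose sum over `Y` is
`1` on `P ∖ 1`); `n + 1 = v t`, `v (1 + |Xp| t) + 1 = q`, `|Xp| + |Xm| + 1 = q`. -/
structure CharData2 [Fintype G] (p : ℕ) (P : Sylow p G) (q t n v : ℕ)
    (Xp Xm Y : Finset (Cfsg.IrrCharacter G)) : Prop where
  triv_notMem : trivIrr G ∉ Xp ∧ trivIrr G ∉ Xm ∧ trivIrr G ∉ Y
  disj : Disjoint Xp Xm ∧ Disjoint Xp Y ∧ Disjoint Xm Y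
  card_X : Xp.card + Xm.card + 1 = q
  card_Y : Y.card = t
  hv : 1 ≤ v
  nv : n + 1 = v * t
  count : v * (1 + Xp.card * t) + 1 = q
  deg_Xp : ∀ χ ∈ Xp, (χ : G → ℂ) 1 = ((1 + n * p : ℕ) : ℂ)
  val_Xp : ∀ χ ∈ Xp, ∀ x ∈ (P : Subgroup G), x ≠ 1 → (χ : G → ℂ) x = 1
  deg_Xm : ∀ χ ∈ Xm, (χ : G → ℂ) 1 = ((p - 1 : ℕ) : ℂ)
  val_Xm : ∀ χ ∈ Xm, ∀ x ∈ (P : Subgroup G), x ≠ 1 → (χ : G → ℂ) x = -1
  deg_Y : ∀ θ ∈ Y, (θ : G → ℂ) 1 = ((v * p - q : ℕ) : ℂ)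
  sum_Y : ∀ θ ∈ Y, ∑ x : ↥(P : Subgroup G), (θ : G → ℂ) (x : G) = ((v * p : ℕ) : ℂ)
  sum_over_Y : ∀ x ∈ (P : Subgroup G), x ≠ 1 → ∑ θ ∈ Y, (θ : G → ℂ) x = 1

/-- The character data of the branch `ε = +1` (`t = 2`, exceptional degree `q = (p - 1)/2`): `Xp` (degree
`1 + n p`, value `1` on `P ∖ 1`), `Xm` (degree `p - 1`, value `-1` on `P ∖ 1`), `Y` (two characters of degree
`q` whose sum over `P` is `0`, whose sum over `Y` is `-1` on `P ∖ 1`); `|Xp| + |Xm| + 1 = q`. -/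
structure CharDataA [Fintype G] (p : ℕ) (P : Sylow p G) (q n : ℕ)
    (Xp Xm Y : Finset (Cfsg.IrrCharacter G)) : Prop where
  triv_notMem : trivIrr G ∉ Xp ∧ trivIrr G ∉ Xm ∧ trivIrr G ∉ Y
  disj : Disjoint Xp Xm ∧ Disjoint Xp Y ∧ Disjoint Xm Y
  card_X : Xp.card + Xm.card + 1 = q
  card_Y : Y.card = 2
  deg_Xp : ∀ χ ∈ Xp, (χ : G → ℂ) 1 = ((1 + n * p : ℕ) : ℂ)
  val_Xp : ∀ χ ∈ Xp, ∀ x ∈ (P : Subgroup G), x ≠ 1 → (χ : G → ℂ) x = 1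
  deg_Xm : ∀ χ ∈ Xm, (χ : G → ℂ) 1 = ((p - 1 : ℕ) : ℂ)
  val_Xm : ∀ χ ∈ Xm, ∀ x ∈ (P : Subgroup G), x ≠ 1 → (χ : G → ℂ) x = -1
  deg_Y : ∀ θ ∈ Y, (θ : G → ℂ) 1 = (q : ℂ)
  sum_Y : ∀ θ ∈ Y, ∑ x : ↥(P : Subgroup G), (θ : G → ℂ) (x : G) = 0
  sum_over_Y : ∀ x ∈ (P : Subgroup G), x ≠ 1 → ∑ θ ∈ Y, (θ : G → ℂ) x = -1

end Cfsg.Agent.Lib.Helper13.B43
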