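import Mathlib
import Cfsg.Agent.Lib.helper7.BR.Defs
import Cfsg.Agent.Lib.Helper13.B43.Defs

/-!
Project BR (helper7), piece FROB0 (helper13): `H ∩ P = 1`, `N = P H`.
-/

set_option autoImplicit false
set_option linter.unusedVariables false
set_option linter.unusedSectionVars false

namespace Cfsg.Agent.Lib.Helper13.B43

open Classical
open Cfsg.Agent.Lib.Helper25
open Cfsg.Agent.Lib.helper7.BR
open Cfsg.Agent.Lib.helper7

universe u

variable {G : Type u} [Group G] [Fintype G] {p : ℕ} [Fact p.Prime] {P : Sylow p G} {q t n v : ℕ}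
  {Xp Xm Y : Finset (Cfsg.IrrCharacter G)} {H : Subgroup G}

/-- `p` and `q` are coprime in the setting. -/
theorem brfrob0_coprime (hS : Setting2 p P q t n) : Nat.Coprime p q := by
  have hp := hS.prime
  rw [Nat.Prime.coprime_iff_not_dvd hp]
  intro hpq
  have h1 : p ∣ p - 1 := by
    rw [← hS.qt]
    exact Dvd.dvd.mul_right hpq t
  have h2 : 0 < p - 1 := by
    have := hp.two_le
    omega
  have := Nat.le_of_dvd h2 h1
  omega

/-- FROB0a : `H ∩ P = 1` (coprime orders) -/
theorem compl_inf (hS : Setting2 p P q t n) (hH : Compl P q H) (g : G) (hg : g ∈ H)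
    (hgP : g ∈ (P : Subgroup G)) : g = 1 := by
  have h1 : orderOf g ∣ q := by
    rw [← hH.card]
    exact Subgroup.orderOf_dvd_natCard H hg
  have h2 : orderOf g ∣ p := by
    rw [← hS.cardP]
    exact Subgroup.orderOf_dvd_natCard _ hgP
  have h3 : orderOf g ∣ Nat.gcd p q := Nat.dvd_gcd h2 h1
  rw [(brfrob0_coprime hS : Nat.gcd p q = 1)] at h3
  exact orderOf_eq_one_iff.1 (Nat.dvd_one.1 h3)

/-- FROB0b : `N = P H` -/
theorem frob_prod (hS : Setting2 p P q t n) (hH : Compl P q H) (x : G) (hx : x ∈ nrm P) :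
    ∃ y ∈ (P : Subgroup G), ∃ h ∈ H, x = y * h := by
  have hPle : (P : Subgroup G) ≤ nrm P := Subgroup.le_normalizer
  have c1 : Nat.card ↥((P : Subgroup G).subgroupOf (nrm P)) = p := by
    rw [Nat.card_congr (Subgroup.subgroupOfEquivOfLe hPle).toEquiv, hS.cardP]
  have c2 : Nat.card ↥(H.subgroupOf (nrm P)) = q := by
    rw [Nat.card_congr (Subgroup.subgroupOfEquivOfLe hH.le).toEquiv, hH.card]
  have hc : Nat.card ↥((P : Subgroup G).subgroupOf (nrm P)) * Nat.card ↥(H.subgroupOf (nrm P)) =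
      Nat.card ↥(nrm P) := by
    rw [c1, c2, hS.cardN]
  have hcop : Nat.Coprime (Nat.card ↥((P : Subgroup G).subgroupOf (nrm P)))
      (Nat.card ↥(H.subgroupOf (nrm P))) := by
    rw [c1, c2]
    exact brfrob0_coprime hS
  have hcompl := Subgroup.isComplement'_of_coprime hc hcop
  obtain ⟨⟨y, h⟩, hyh, -⟩ := Subgroup.IsComplement.existsUnique hcompl ⟨x, hx⟩
  refine ⟨y.1.1, y.2, h.1.1, h.2, ?_⟩
  have := congrArg Subtype.val hyh
  simpa using this.symm

end Cfsg.Agent.Lib.Helper13.B43
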