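import Mathlib
import Cfsg.Agent.Lib.helper7.BR.Defs
import Cfsg.Agent.Lib.Helper13.B43.Defs
import Cfsg.Agent.Lib.helper2.CharNat
import Cfsg.Agent.Lib.helper2.CharInd
import Cfsg.Agent.Lib.Helper25.CharBasic
import Cfsg.Agent.Lib.Helper25.CharOrth
import Cfsg.Agent.Lib.Helper24.GaloisNorm

/-!
# Project B43, piece VAN1x : refined lower bound for `∑_{x ∈ P} |θ(x)|²`

For a character `θ` of degree `d` with `∑_{x ∈ P} θ(x) = v p` (`|P| = p`):
`∑_{x ∈ P} |θ(x)|² ≥ p (v² + (2v - 1)(d - v) - (p - 1) v (v - 1))`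
(`θ_P = ∑ m_λ λ`, `m_1 = v`, and `m² ≥ (2v - 1) m - v (v - 1)` for every integer `m`).
-/

set_option autoImplicit false
set_option linter.unusedVariables false
set_option linter.unusedSectionVars false

namespace Cfsg.Agent.Lib.Helper13.B43

open Classical
open Cfsg.Agent.Lib.Helper25
open Cfsg.Agent.Lib.helper2
open Cfsg.Agent.Lib.helper7.BR
open scoped ComplexConjugate

universe u

variable {G : Type u} [Group G] [Fintype G] {p : ℕ} [Fact p.Prime] {P : Sylow p G}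

/-- the number of irreducible characters of a commutative group is its order -/
theorem van1x_card_irr {C : Type u} [Group C] [Fintype C] [IsMulCommutative C]
    [Fintype (Cfsg.IrrCharacter C)] : Fintype.card (Cfsg.IrrCharacter C) = Nat.card C := by
  have h := irr_column_orthogonality (G := C) 1 1
  rw [if_pos (IsConj.refl 1)] at h
  have hc : Subgroup.centralizer ({(1 : C)} : Set C) = ⊤ := by
    ext g
    simp [Subgroup.mem_centralizer_singleton_iff]
  rw [hc, Subgroup.card_top] at h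
  have h2 : ∑ χ : Cfsg.IrrCharacter C, (χ : C → ℂ) 1 * conj ((χ : C → ℂ) 1) =
      (Fintype.card (Cfsg.IrrCharacter C) : ℂ) := by
    rw [Finset.sum_congr rfl (g := fun _ => (1 : ℂ))]
    · simp
    · intro μ _
      rw [Cfsg.Agent.Lib.Helper24.gn_irr_one_of_isMulCommutative μ]
      simp
  rw [h2] at h
  exact_mod_cast h

/-- for a character `ψ` of a commutative group `C` with `∑_x ψ(x) = |C| v`:
`|C| (v² + (2v-1)(d-v) - (|C|-1) v (v-1)) ≤ ∑_x |ψ(x)|²` -/
theorem van1x_comm {C : Type u} [Group C] [Fintype C] [IsMulCommutative C] (ψ : C → ℂ)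
    (hψ : Cfsg.IsCharacter C ψ) (d v : ℕ) (hd : ψ 1 = (d : ℂ))
    (hsum : ∑ x : C, ψ x = ((v * Nat.card C : ℕ) : ℂ)) :
    (Nat.card C : ℝ) * ((v : ℝ) ^ 2 + (2 * (v : ℝ) - 1) * ((d : ℝ) - v) -
      ((Nat.card C : ℝ) - 1) * v * ((v : ℝ) - 1)) ≤ ∑ x : C, Complex.normSq (ψ x) := by
  haveI : Fintype (Cfsg.IrrCharacter C) := Fintype.ofFinite _
  obtain ⟨m, hm, hexp⟩ := isCharacter_expansion hψ
  have hCpos : 0 < Nat.card C := Nat.card_pos
  have hne : (Nat.card C : ℂ) ≠ 0 := by exact_mod_cast hCpos.ne'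
  -- the degree
  have hdeg : (d : ℂ) = ∑ μ : Cfsg.IrrCharacter C, (m μ : ℂ) := by
    rw [← hd]
    conv_lhs => rw [hexp]
    rw [Finset.sum_apply]
    refine Finset.sum_congr rfl fun μ _ => ?_
    rw [Pi.smul_apply, smul_eq_mul, Cfsg.Agent.Lib.Helper24.gn_irr_one_of_isMulCommutative μ, mul_one]
  have hdegN : d = ∑ μ : Cfsg.IrrCharacter C, m μ := by
    have : (d : ℂ) = ((∑ μ : Cfsg.IrrCharacter C, m μ : ℕ) : ℂ) := by
      rw [hdeg]; push_cast; rfl
    exact_mod_cast this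
  -- the multiplicity of the trivial character
  have htriv : m (trivIrr C) = v := by
    have h1 := hm (trivIrr C)
    unfold Cfsg.classInner at h1
    have h2 : ∑ g : C, ψ g * (starRingEnd ℂ) ((trivIrr C : C → ℂ) g) = ∑ g : C, ψ g := by
      refine Finset.sum_congr rfl fun g _ => ?_
      rw [trivIrr_apply, map_one, mul_one]
    rw [h2, hsum] at h1
    have h3 : ((m (trivIrr C) : ℕ) : ℂ) = (v : ℂ) := by
      rw [← h1]
      push_cast
      field_simp
    exact_mod_cast h3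
  -- the norm
  have hinner : Cfsg.classInner ψ ψ = ∑ μ : Cfsg.IrrCharacter C, ((m μ : ℂ)) ^ 2 := by
    have h1 : Cfsg.classInner (∑ μ : Cfsg.IrrCharacter C, (m μ : ℂ) • (μ : C → ℂ)) ψ =
        ∑ μ : Cfsg.IrrCharacter C, (m μ : ℂ) * Cfsg.classInner (μ : C → ℂ) ψ := by
      rw [classInner_sum_left]
      refine Finset.sum_congr rfl fun μ _ => ?_
      rw [classInner_smul_left]
    have h2 : Cfsg.classInner ψ ψ =
        Cfsg.classInner (∑ μ : Cfsg.IrrCharacter C, (m μ : ℂ) • (μ : C → ℂ)) ψ := by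
      rw [← hexp]
    rw [h2, h1]
    refine Finset.sum_congr rfl fun μ _ => ?_
    rw [Cfsg.Agent.Lib.helper2.classInner_conj_symm, hm μ, Complex.conj_natCast, sq]
  have hsumN : (∑ x : C, (Complex.normSq (ψ x) : ℂ)) =
      (Nat.card C : ℂ) * ∑ μ : Cfsg.IrrCharacter C, ((m μ : ℂ)) ^ 2 := by
    rw [← hinner]
    unfold Cfsg.classInner
    rw [← mul_assoc, mul_inv_cancel₀ hne, one_mul]
    refine Finset.sum_congr rfl fun x _ => ?_
    rw [Complex.mul_conj]
  have hsumR : (∑ x : C, Complex.normSq (ψ x)) =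
      (Nat.card C : ℝ) * ∑ μ : Cfsg.IrrCharacter C, ((m μ : ℝ)) ^ 2 := by
    have : ((∑ x : C, Complex.normSq (ψ x) : ℝ) : ℂ) =
        (((Nat.card C : ℝ) * ∑ μ : Cfsg.IrrCharacter C, ((m μ : ℝ)) ^ 2 : ℝ) : ℂ) := by
      push_cast
      rw [← hsumN]
    exact_mod_cast this
  rw [hsumR]
  apply mul_le_mul_of_nonneg_left _ (Nat.cast_nonneg _)
  -- the pointwise inequality
  have hpt : ∀ μ : Cfsg.IrrCharacter C,
      (2 * (v : ℝ) - 1) * (m μ : ℝ) - (v : ℝ) * ((v : ℝ) - 1) ≤ ((m μ : ℝ)) ^ 2 := by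
    intro μ
    have hz : (0 : ℤ) ≤ ((m μ : ℤ) - v) * ((m μ : ℤ) - v + 1) := by
      rcases le_or_gt (v : ℤ) (m μ : ℤ) with h | h
      · exact mul_nonneg (by omega) (by omega)
      · exact mul_nonneg_of_nonpos_of_nonpos (by omega) (by omega)
    have hr : (0 : ℝ) ≤ ((m μ : ℝ) - v) * ((m μ : ℝ) - v + 1) := by exact_mod_cast hz
    nlinarith
  have hs := Finset.sum_le_sum (fun μ (_ : μ ∈ (Finset.univ : Finset (Cfsg.IrrCharacter C))) => hpt μ)
  rw [Finset.sum_sub_distrib, ← Finset.mul_sum, Finset.sum_const, nsmul_eq_mul, Finset.card_univ,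
    van1x_card_irr] at hs
  have hdR : (d : ℝ) = ∑ μ : Cfsg.IrrCharacter C, (m μ : ℝ) := by
    rw [hdegN]; push_cast; rfl
  rw [← hdR] at hs
  -- `(2v-1) d - |C| v (v-1) = v² + (2v-1)(d-v) - (|C|-1) v (v-1)`
  have : (v : ℝ) ^ 2 + (2 * (v : ℝ) - 1) * ((d : ℝ) - v) - ((Nat.card C : ℝ) - 1) * v * ((v : ℝ) - 1) =
      (2 * (v : ℝ) - 1) * (d : ℝ) - (Nat.card C : ℝ) * ((v : ℝ) * ((v : ℝ) - 1)) := by ring
  rw [this]
  exact hs

/-- VAN1x : refined lower bound on a Sylow subgroup of prime order -/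
theorem sum_normSq_ge_refined (P : Sylow p G) (hP : Nat.card ↥(P : Subgroup G) = p) (θ : G → ℂ)
    (hθ : Cfsg.IsCharacter G θ) (d v : ℕ) (hd : θ 1 = (d : ℂ))
    (hsum : ∑ x : ↥(P : Subgroup G), θ (x : G) = ((v * p : ℕ) : ℂ)) :
    (p : ℝ) * ((v : ℝ) ^ 2 + (2 * (v : ℝ) - 1) * ((d : ℝ) - v) -
      ((p : ℝ) - 1) * v * ((v : ℝ) - 1)) ≤
      ∑ x : ↥(P : Subgroup G), Complex.normSq (θ (x : G)) := by
  have : IsCyclic ↥(P : Subgroup G) := isCyclic_of_prime_card hP
  have hres := isCharacter_restrict hθ (P : Subgroup G)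
  have h1 := van1x_comm (C := ↥(P : Subgroup G)) (fun h => θ h) hres d v (by simpa using hd)
    (by rw [hP]; exact hsum)
  rw [hP] at h1
  exact h1

end Cfsg.Agent.Lib.Helper13.B43
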