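import Mathlib
import Cfsg.Agent.Lib.helper7.BR.Defs
import Cfsg.Agent.Lib.Helper13.B43.Defs
import Cfsg.Agent.Lib.helper2.CharNat
import Cfsg.Agent.Lib.Helper27.BRPERM1
import Cfsg.Agent.Lib.Helper27.BRPERM4

/-!
# Project B43 (generalised from project BR), piece PERM6 (core) : `⟨π, π⟩ ≤ t`, with the statement of PERM5 as a hypothesis
-/

set_option autoImplicit false
set_option linter.unusedVariables false
set_option linter.unusedSectionVars false

namespace Cfsg.Agent.Lib.Helper13.B43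

open Classical
open Cfsg.Agent.Lib.Helper25
open Cfsg.Agent.Lib.helper7.BR
open Cfsg.Agent.Lib.helper7

universe u

variable {G : Type u} [Group G] [Fintype G] {p : ℕ} [Fact p.Prime] {P : Sylow p G} {q t n v : ℕ}
  {Xp Xm Y : Finset (Cfsg.IrrCharacter G)} {H : Subgroup G}

theorem brperm6_conj (N : Subgroup G) {x : G} (hx : x ∈ N) : conjSub x N = N := by
  ext g
  rw [mem_conjSub]
  constructor
  · intro h
    have := N.mul_mem (N.mul_mem hx h) (N.inv_mem hx)
    simpa [mul_assoc] using this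
  · intro h
    exact N.mul_mem (N.mul_mem (N.inv_mem hx) h) hx

/-- PERM6 with PERM5 as a hypothesis. -/
theorem brperm6_core (hS : Setting2 p P q t n)
    (hdvd : ∀ x : G, x ∉ nrm P → Nat.card ↥(nrm P ⊓ conjSub x (nrm P)) ∣ q) :
    ∃ m : ℕ, Cfsg.classInner (permChar P) (permChar P) = (m : ℂ) ∧ m ≤ n + 1 ∧
      (m = n + 1 → ∀ x : G, x ∉ nrm P → Nat.card ↥(nrm P ⊓ conjSub x (nrm P)) = q) := by
  obtain ⟨m, hm⟩ := Cfsg.Agent.Lib.helper2.classInner_character_nat (permChar_isCharacter P)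
    (permChar_isCharacter P)
  have h4 := inner_permChar_self P
  have hNpos : 0 < Nat.card ↥(nrm P) := Nat.card_pos
  have hnat : m * (Nat.card ↥(nrm P)) ^ 2 =
      ∑ x : G, Nat.card ↥(nrm P ⊓ conjSub x (nrm P)) := by
    have hne : (Nat.card ↥(nrm P) : ℂ) ≠ 0 := by exact_mod_cast hNpos.ne'
    have : (m : ℂ) * (Nat.card ↥(nrm P) : ℂ) ^ 2 =
        ∑ x : G, (Nat.card ↥(nrm P ⊓ conjSub x (nrm P)) : ℂ) := by
      rw [← hm, h4]
      field_simp
    exact_mod_cast this
  have hq0 : 0 < q := by have := hS.hq; omega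
  have hle : ∀ x : G, x ∉ nrm P → Nat.card ↥(nrm P ⊓ conjSub x (nrm P)) ≤ q :=
    fun x hx => Nat.le_of_dvd hq0 (hdvd x hx)
  have hin : ∀ x : G, x ∈ nrm P → Nat.card ↥(nrm P ⊓ conjSub x (nrm P)) = Nat.card ↥(nrm P) := by
    intro x hx
    rw [brperm6_conj (nrm P) hx, inf_idem]
  -- split the sum
  have hsplit : ∑ x : G, Nat.card ↥(nrm P ⊓ conjSub x (nrm P)) =
      ∑ x ∈ Finset.univ.filter (fun x : G => x ∈ nrm P), Nat.card ↥(nrm P ⊓ conjSub x (nrm P)) +
      ∑ x ∈ Finset.univ.filter (fun x : G => ¬ x ∈ nrm P),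
        Nat.card ↥(nrm P ⊓ conjSub x (nrm P)) :=
    (Finset.sum_filter_add_sum_filter_not Finset.univ (fun x : G => x ∈ nrm P) _).symm
  have hc1 : (Finset.univ.filter (fun x : G => x ∈ nrm P)).card = Nat.card ↥(nrm P) := by
    rw [Nat.card_eq_fintype_card, Fintype.card_subtype]
  have hs1 : ∑ x ∈ Finset.univ.filter (fun x : G => x ∈ nrm P),
      Nat.card ↥(nrm P ⊓ conjSub x (nrm P)) = Nat.card ↥(nrm P) * Nat.card ↥(nrm P) := by
    rw [Finset.sum_congr rfl (fun x hx => hin x (Finset.mem_filter.mp hx).2), Finset.sum_const,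
      smul_eq_mul, hc1]
  have hcG : Nat.card ↥(nrm P) * (nrm P).index = Nat.card G := Subgroup.card_mul_index _
  have hc2 : (Finset.univ.filter (fun x : G => ¬ x ∈ nrm P)).card + Nat.card ↥(nrm P) =
      Nat.card G := by
    rw [← hc1, add_comm, Finset.card_filter_add_card_filter_not (fun x : G => x ∈ nrm P) (s := Finset.univ)
      , Finset.card_univ, Nat.card_eq_fintype_card]
  have ht1 : 1 ≤ t := by have := hS.ht; omega
  -- `|S₂| q = n |N|²`
  have hc2' : (Finset.univ.filter (fun x : G => ¬ x ∈ nrm P)).card * q =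
      n * (Nat.card ↥(nrm P)) ^ 2 := by
    have e1 : (Finset.univ.filter (fun x : G => ¬ x ∈ nrm P)).card = p * q * (n * p) := by
      have : (Finset.univ.filter (fun x : G => ¬ x ∈ nrm P)).card + p * q =
          p * q * (1 + n * p) := by
        rw [← hS.cardN, ← hS.index, hcG]
        exact hc2
      have e2 : p * q * (1 + n * p) = p * q * (n * p) + p * q := by ring
      omega
    rw [e1, hS.cardN]
    ring
  have hs2le : ∑ x ∈ Finset.univ.filter (fun x : G => ¬ x ∈ nrm P),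
      Nat.card ↥(nrm P ⊓ conjSub x (nrm P)) ≤
      ∑ x ∈ Finset.univ.filter (fun x : G => ¬ x ∈ nrm P), q :=
    Finset.sum_le_sum (fun x hx => hle x (Finset.mem_filter.mp hx).2)
  have hsq : ∑ x ∈ Finset.univ.filter (fun x : G => ¬ x ∈ nrm P), q =
      n * (Nat.card ↥(nrm P)) ^ 2 := by
    rw [Finset.sum_const, smul_eq_mul, hc2']
  have hN2 : 0 < (Nat.card ↥(nrm P)) ^ 2 := by positivity
  have htt : (Nat.card ↥(nrm P)) ^ 2 + n * (Nat.card ↥(nrm P)) ^ 2 =
      (n + 1) * (Nat.card ↥(nrm P)) ^ 2 := by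
    ring
  have hmle : m * (Nat.card ↥(nrm P)) ^ 2 ≤ (n + 1) * (Nat.card ↥(nrm P)) ^ 2 := by
    rw [hnat, hsplit, hs1, ← htt, ← pow_two]
    apply Nat.add_le_add_left
    rw [← hsq]
    exact hs2le
  refine ⟨m, hm, Nat.le_of_mul_le_mul_right hmle hN2, ?_⟩
  intro hmt x hx
  have heq : ∑ x ∈ Finset.univ.filter (fun x : G => ¬ x ∈ nrm P),
      Nat.card ↥(nrm P ⊓ conjSub x (nrm P)) =
      ∑ x ∈ Finset.univ.filter (fun x : G => ¬ x ∈ nrm P), q := by
    have h5 : m * (Nat.card ↥(nrm P)) ^ 2 = (Nat.card ↥(nrm P)) ^ 2 +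
        ∑ x ∈ Finset.univ.filter (fun x : G => ¬ x ∈ nrm P),
          Nat.card ↥(nrm P ⊓ conjSub x (nrm P)) := by
      rw [hnat, hsplit, hs1, ← pow_two]
    rw [hmt, ← htt] at h5
    rw [hsq]
    omega
  have := (Finset.sum_eq_sum_iff_of_le
    (fun x hx => hle x (Finset.mem_filter.mp hx).2)).mp heq x
    (Finset.mem_filter.mpr ⟨Finset.mem_univ _, hx⟩)
  exact this

end Cfsg.Agent.Lib.Helper13.B43
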