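import Mathlib
import Cfsg.Agent.Lib.helper7.BR.Defs
import Cfsg.Agent.Lib.Helper13.B43.Defs
import Cfsg.Agent.Lib.Helper13.B43.PERM6core
import Cfsg.Agent.Lib.Helper13.B43.PERM5

/-!
# Project B43 (generalised from project BR), piece PERM6 : `⟨π, π⟩ ≤ t`, equality only when all the intersections have order `q`
-/

set_option autoImplicit false
set_option linter.unusedVariables false
set_option linter.unusedSectionVars false

namespace Cfsg.Agent.Lib.Helper13.B43

open Classical
open Cfsg.Agent.Lib.Helper25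
open Cfsg.Agent.Lib.helper7.BR
open Cfsg.Agent.Lib.helper7

universe u

variable {G : Type u} [Group G] [Fintype G] {p : ℕ} [Fact p.Prime] {P : Sylow p G} {q t n v : ℕ}
  {Xp Xm Y : Finset (Cfsg.IrrCharacter G)} {H : Subgroup G}

/-- PERM6 : `⟨π, π⟩ = m ≤ n + 1`, and `m = n + 1` forces `|N ∩ x N x⁻¹| = q` for all `x ∉ N`. -/
theorem inner_permChar_self_le (hS : Setting2 p P q t n) :
    ∃ m : ℕ, Cfsg.classInner (permChar P) (permChar P) = (m : ℂ) ∧ m ≤ n + 1 ∧
      (m = n + 1 → ∀ x : G, x ∉ nrm P → Nat.card ↥(nrm P ⊓ conjSub x (nrm P)) = q) :=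
  brperm6_core hS (fun x hx => card_inter_dvd hS x hx)

end Cfsg.Agent.Lib.Helper13.B43
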