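import Mathlib
import Cfsg.Agent.Lib.helper7.BR.Defs
import Cfsg.Agent.Lib.Helper13.B43.Defs
import Cfsg.Agent.Lib.Helper25.CharOrth

set_option autoImplicit false
set_option linter.unusedVariables false
set_option linter.unusedSectionVars false

namespace Cfsg.Agent.Lib.Helper13.B43

open Classical
open Cfsg.Agent.Lib.Helper25
open Cfsg.Agent.Lib.helper7.BR
open Cfsg.Agent.Lib.helper7

universe u

variable {G : Type u} [Group G] [Fintype G] {p : ℕ} [Fact p.Prime] {P : Sylow p G} {q t n v : ℕ}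
  {Xp Xm Y : Finset (Cfsg.IrrCharacter G)} {H : Subgroup G}

theorem brrsq_total [Fintype (Cfsg.IrrCharacter G)] :
    ∑ χ : Cfsg.IrrCharacter G, ((χ : G → ℂ) 1) ^ 2 = (Nat.card G : ℂ) := by
  have h := irr_column_orthogonality (G := G) 1 1
  rw [if_pos (IsConj.refl 1)] at h
  have hc : Subgroup.centralizer ({(1 : G)} : Set G) = ⊤ := by
    rw [eq_top_iff]
    intro x _
    rw [Subgroup.mem_centralizer_iff]
    intro y hy
    rw [Set.mem_singleton_iff] at hy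
    rw [hy, one_mul, mul_one]
  rw [hc, Subgroup.card_top] at h
  rw [← h]
  apply Finset.sum_congr rfl
  intro χ _
  obtain ⟨n, -, hn⟩ := irr_one_eq_finrank χ
  rw [hn, Complex.conj_natCast, pow_two]

theorem brrsq_mem_rest [Fintype (Cfsg.IrrCharacter G)] (ψ : Cfsg.IrrCharacter G) :
    ψ ∈ rest Xp Xm Y ↔ ψ ≠ trivIrr G ∧ ψ ∉ Xp ∧ ψ ∉ Xm ∧ ψ ∉ Y := by
  unfold rest
  simp only [Finset.mem_sdiff, Finset.mem_univ, true_and, Finset.mem_insert, Finset.mem_union]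
  tauto

theorem rest_sum_sq [Fintype (Cfsg.IrrCharacter G)] (hS : Setting2 p P q t n)
    (hD : CharData2 p P q t n v Xp Xm Y) :
    ∑ ψ ∈ rest Xp Xm Y, ((ψ : G → ℂ) 1) ^ 2 = (p : ℂ) ^ 2 * (n : ℂ) := by
  have htot := brrsq_total (G := G)
  have hdisjR : Disjoint (rest Xp Xm Y) (insert (trivIrr G) (Xp ∪ Xm ∪ Y)) := by
    rw [Finset.disjoint_left]
    intro ψ hψ hψ2
    rw [brrsq_mem_rest] at hψ
    rw [Finset.mem_insert, Finset.mem_union, Finset.mem_union] at hψ2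
    tauto
  have hunion : (Finset.univ : Finset (Cfsg.IrrCharacter G)) =
      rest Xp Xm Y ∪ insert (trivIrr G) (Xp ∪ Xm ∪ Y) := by
    ext ψ
    rw [Finset.mem_union, brrsq_mem_rest, Finset.mem_insert, Finset.mem_union, Finset.mem_union]
    simp only [Finset.mem_univ, true_iff]
    tauto
  have hsplit : ∑ ψ ∈ rest Xp Xm Y, ((ψ : G → ℂ) 1) ^ 2 +
      ∑ ψ ∈ insert (trivIrr G) (Xp ∪ Xm ∪ Y), ((ψ : G → ℂ) 1) ^ 2 = (Nat.card G : ℂ) := by
    rw [← htot, hunion, Finset.sum_union hdisjR]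
  obtain ⟨ht1, ht2, ht3⟩ := hD.triv_notMem
  obtain ⟨hd1, hd2, hd3⟩ := hD.disj
  have hins : trivIrr G ∉ Xp ∪ Xm ∪ Y := by
    rw [Finset.mem_union, Finset.mem_union]
    tauto
  have hdisjY : Disjoint (Xp ∪ Xm) Y := Finset.disjoint_union_left.mpr ⟨hd2, hd3⟩
  rw [Finset.sum_insert hins, Finset.sum_union hdisjY, Finset.sum_union hd1] at hsplit
  have hXp : ∑ χ ∈ Xp, ((χ : G → ℂ) 1) ^ 2 = (Xp.card : ℂ) * (((1 + n * p : ℕ) : ℂ)) ^ 2 := by
    rw [Finset.sum_congr rfl (fun χ hχ => by rw [hD.deg_Xp χ hχ]), Finset.sum_const, nsmul_eq_mul]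
  have hXm : ∑ χ ∈ Xm, ((χ : G → ℂ) 1) ^ 2 = (Xm.card : ℂ) * (((p - 1 : ℕ) : ℂ)) ^ 2 := by
    rw [Finset.sum_congr rfl (fun χ hχ => by rw [hD.deg_Xm χ hχ]), Finset.sum_const, nsmul_eq_mul]
  have hY : ∑ χ ∈ Y, ((χ : G → ℂ) 1) ^ 2 = (Y.card : ℂ) * (((v * p - q : ℕ) : ℂ)) ^ 2 := by
    rw [Finset.sum_congr rfl (fun χ hχ => by rw [hD.deg_Y χ hχ]), Finset.sum_const, nsmul_eq_mul]
  rw [hXp, hXm, hY, trivIrr_apply] at hsplit
  have hG : (Nat.card G : ℂ) = (p : ℂ) * q * (((1 + n * p : ℕ) : ℂ)) := by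
    rw [← Subgroup.card_mul_index (nrm P), hS.cardN, hS.index]
    push_cast
    ring
  have ht2' : 2 ≤ t := hS.ht
  have hq2 : 2 ≤ q := hS.hq
  have hp1 : 1 ≤ p := hS.prime.pos
  have hqt : q * t = p - 1 := hS.qt
  have hv1 : 1 ≤ v := hD.hv
  have hqp : q ≤ p := by
    have : q * 1 ≤ q * t := Nat.mul_le_mul_left q (by omega)
    omega
  have hqvp : q ≤ v * p := by
    have : 1 * p ≤ v * p := Nat.mul_le_mul_right p hv1
    omega
  have c1 : ((1 + n * p : ℕ) : ℂ) = 1 + (n : ℂ) * p := by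
    push_cast
    ring
  have c2 : ((p - 1 : ℕ) : ℂ) = (p : ℂ) - 1 := by
    rw [Nat.cast_sub hp1, Nat.cast_one]
  have c3 : ((v * p - q : ℕ) : ℂ) = (v : ℂ) * p - q := by
    rw [Nat.cast_sub hqvp, Nat.cast_mul]
  have e1 : (Xp.card : ℂ) + Xm.card + 1 = q := by exact_mod_cast hD.card_X
  have e2 : (Y.card : ℂ) = t := by exact_mod_cast hD.card_Y
  have e3 : (v : ℂ) * (1 + (Xp.card : ℂ) * t) + 1 = q := by exact_mod_cast hD.count
  have e4 : (q : ℂ) * t = (p : ℂ) - 1 := by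
    rw [← c2]
    exact_mod_cast hqt
  have e5 : (n : ℂ) + 1 = (v : ℂ) * t := by exact_mod_cast hD.nv
  rw [hG, c1, c2, c3, e2] at hsplit
  have hM : (Xm.card : ℂ) = (q : ℂ) - 1 - Xp.card := by
    rw [← e1]
    ring
  have hp : (p : ℂ) = (q : ℂ) * t + 1 := by
    rw [e4]
    ring
  have hq : (q : ℂ) = (v : ℂ) * (1 + (Xp.card : ℂ) * t) + 1 := e3.symm
  have hn : (n : ℂ) = (v : ℂ) * t - 1 := by
    rw [← e5]
    ring
  have key : ∑ ψ ∈ rest Xp Xm Y, ((ψ : G → ℂ) 1) ^ 2 =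
      (p : ℂ) * q * (1 + (n : ℂ) * p) -
        ((1 : ℂ) ^ 2 + ((Xp.card : ℂ) * (1 + (n : ℂ) * p) ^ 2 +
          (Xm.card : ℂ) * ((p : ℂ) - 1) ^ 2 + (t : ℂ) * ((v : ℂ) * p - q) ^ 2)) := by
    rw [← hsplit]
    ring
  rw [key, hM, hn, hp, hq]
  ring

end Cfsg.Agent.Lib.Helper13.B43
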