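import Mathlib
import Cfsg.Agent.Lib.helper7.BR.Defs
import Cfsg.Agent.Lib.Helper13.B43.Defs

set_option autoImplicit false
set_option linter.unusedVariables false
set_option linter.unusedSectionVars false

namespace Cfsg.Agent.Lib.Helper13.B43

open Classical
open Cfsg.Agent.Lib.Helper25
open Cfsg.Agent.Lib.helper7.BR
open Cfsg.Agent.Lib.helper7

universe u

variable {G : Type u} [Group G] [Fintype G] {p : ℕ} [Fact p.Prime] {P : Sylow p G} {q t n v : ℕ}
  {Xp Xm Y : Finset (Cfsg.IrrCharacter G)} {H : Subgroup G}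

theorem frob_cent (hS : Setting2 p P q t n) (h : G) (hh : h ∈ nrm P) (hhP : h ∉ (P : Subgroup G))
    (x : G) (hx : x ∈ (P : Subgroup G)) (hcomm : x * h = h * x) : x = 1 := by
  by_contra hx1
  apply hhP
  rw [← hS.cent]
  show h ∈ Subgroup.centralizer ((P : Subgroup G) : Set G)
  rw [Subgroup.mem_centralizer_iff]
  intro y hy
  have hne : (⟨x, hx⟩ : ↥(P : Subgroup G)) ≠ 1 := fun e => hx1 (congrArg Subtype.val e)
  have hmem : (⟨y, hy⟩ : ↥(P : Subgroup G)) ∈ Subgroup.zpowers (⟨x, hx⟩ : ↥(P : Subgroup G)) :=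
    mem_zpowers_of_prime_card hS.cardP hne
  obtain ⟨k, hk⟩ := Subgroup.mem_zpowers_iff.mp hmem
  have hy_eq : y = x ^ k := by
    have := congrArg Subtype.val hk
    simpa using this.symm
  rw [hy_eq]
  exact ((Commute.zpow_left (show Commute x h from hcomm) k)).eq

theorem frob_coset (hS : Setting2 p P q t n) (h : G) (hh : h ∈ nrm P) (hhP : h ∉ (P : Subgroup G))
    (x : G) (hx : x ∈ (P : Subgroup G)) : ∃ y ∈ (P : Subgroup G), x * h = y * h * y⁻¹ := by
  have hnorm : ∀ y, y ∈ (P : Subgroup G) → h * y * h⁻¹ ∈ (P : Subgroup G) := by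
    intro y hy
    exact (Subgroup.mem_normalizer_iff.mp hh y).mp hy
  have hfin : Finite ↥(P : Subgroup G) := inferInstance
  let f : ↥(P : Subgroup G) → ↥(P : Subgroup G) := fun y =>
    ⟨(y : G) * (h * (y : G)⁻¹ * h⁻¹),
      Subgroup.mul_mem _ y.2 (hnorm _ (Subgroup.inv_mem _ y.2))⟩
  have hinj : Function.Injective f := by
    intro y y' hyy'
    have e : (y : G) * (h * (y : G)⁻¹ * h⁻¹) = (y' : G) * (h * (y' : G)⁻¹ * h⁻¹) :=
      congrArg Subtype.val hyy'
    have hc : ((y' : G)⁻¹ * (y : G)) * h = h * ((y' : G)⁻¹ * (y : G)) := by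
      have e2 : (y : G) * h * (y : G)⁻¹ = (y' : G) * h * (y' : G)⁻¹ := by
        have := congrArg (fun z => z * h) e
        simpa [mul_assoc] using this
      calc ((y' : G)⁻¹ * (y : G)) * h = (y' : G)⁻¹ * ((y : G) * h * (y : G)⁻¹) * (y : G) := by group
        _ = (y' : G)⁻¹ * ((y' : G) * h * (y' : G)⁻¹) * (y : G) := by rw [e2]
        _ = h * ((y' : G)⁻¹ * (y : G)) := by group
    have h1 := frob_cent hS h hh hhP _
      (Subgroup.mul_mem _ (Subgroup.inv_mem _ y'.2) y.2) hc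
    apply Subtype.ext
    calc (y : G) = (y' : G) * ((y' : G)⁻¹ * (y : G)) := by group
      _ = (y' : G) := by rw [h1, mul_one]
  have hsurj : Function.Surjective f := Finite.injective_iff_surjective.mp hinj
  obtain ⟨y, hy⟩ := hsurj ⟨x, hx⟩
  refine ⟨y, y.2, ?_⟩
  have e : (y : G) * (h * (y : G)⁻¹ * h⁻¹) = x := congrArg Subtype.val hy
  rw [← e]
  group

end Cfsg.Agent.Lib.Helper13.B43
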