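import Mathlib
import Cfsg.Agent.Lib.helper7.BR.Defs
import Cfsg.Agent.Lib.Helper13.B43.Defs
import Cfsg.Agent.Lib.Helper13.B43.FROB3
import Cfsg.Agent.Lib.Helper13.B43.FROB0
import Cfsg.Agent.Lib.Helper13.B43.TWO
import Cfsg.Agent.Lib.Helper13.B43.FROB4
import Cfsg.Agent.Lib.Helper13.B43.FROB5

/-!
Project BR (helper7), piece LSTR1 (helper13): `L ∩ P = 1` and the decomposition `x ∈ L P`.
-/

set_option autoImplicit false
set_option linter.unusedVariables false
set_option linter.unusedSectionVars false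

namespace Cfsg.Agent.Lib.Helper13.B43

open Classical
open Cfsg.Agent.Lib.Helper25
open Cfsg.Agent.Lib.helper7.BR
open Cfsg.Agent.Lib.helper7

universe u

variable {G : Type u} [Group G] [Fintype G] {p : ℕ} [Fact p.Prime] {P : Sylow p G} {q t n v : ℕ}
  {Xp Xm Y : Finset (Cfsg.IrrCharacter G)} {H : Subgroup G}

/-- a complement contains a non-trivial element. -/
theorem brlstr1_exists_ne_one (hS : Setting2 p P q t n) (hH : Compl P q H) : ∃ h ∈ H, h ≠ 1 := by
  by_contra hcon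
  push Not at hcon
  have hbot : H = ⊥ := by
    rw [eq_bot_iff]
    intro x hx
    exact Subgroup.mem_bot.2 (hcon x hx)
  have h1 := hH.card
  rw [hbot, Subgroup.card_bot] at h1
  have := hS.hq
  omega

/-- LSTR1 : `L ∩ N = H` (FROB6) and `L ∩ P = 1`. -/
theorem nrmH_inf_P (hS : Setting2 p P q t n) (hH : Compl P q H) (x : G) (hx : x ∈ nrmH H)
    (hxP : x ∈ (P : Subgroup G)) : x = 1 := by
  obtain ⟨h, hh, hh1⟩ := brlstr1_exists_ne_one hS hH
  exact compl_inter hS hH x hxP h hh hh1 ((Subgroup.mem_normalizer_iff.1 hx h).1 hh)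

/-- conjugating by `1` does nothing. -/
theorem brlstr1_conjSub_one (K : Subgroup G) : conjSub 1 K = K := by
  ext g
  rw [mem_conjSub]
  simp

/-- LSTR2 -/
theorem fix_decomp [Fintype (Cfsg.IrrCharacter G)] (hS : Setting2 p P q t n)
    (hD : CharData2 p P q t n v Xp Xm Y) (hH : Compl P q H) (h : G) (hh : h ∈ H) (hh1 : h ≠ 1) (x : G)
    (hx : x⁻¹ * h * x ∈ nrm P) : ∃ l ∈ nrmH H, ∃ y ∈ (P : Subgroup G), x = l * y := by
  have hHL : H ≤ nrmH H := Subgroup.le_normalizer
  by_cases hxN : x ∈ nrm P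
  · obtain ⟨y', hy', h', hh', e⟩ := frob_prod hS hH x hxN
    refine ⟨h', hHL hh', h'⁻¹ * y' * h', ?_, by rw [e]; group⟩
    have hn : h'⁻¹ ∈ nrm P := Subgroup.inv_mem _ (hH.le hh')
    have := (Subgroup.mem_normalizer_iff.1 hn y').1 hy'
    simpa using this
  · -- `H' = N ∩ x N x⁻¹ ∋ h` is a complement
    have hH' : Compl P q (nrm P ⊓ conjSub x (nrm P)) :=
      compl_of_le hS _ inf_le_left (two_point_stab hS hD x hxN)
    have hhH' : h ∈ nrm P ⊓ conjSub x (nrm P) :=
      Subgroup.mem_inf.2 ⟨hH.le hh, (mem_conjSub x (nrm P) h).2 hx⟩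
    obtain ⟨y, hy, hyH⟩ := compl_conj hS hH hH'
    have hy1 : y = 1 := by
      rw [hyH, mem_conjSub] at hhH'
      have h1 : y⁻¹ = 1 := compl_inter hS hH y⁻¹ (Subgroup.inv_mem _ hy) h hh hh1
        (by simpa using hhH')
      simpa using h1
    rw [hy1, brlstr1_conjSub_one] at hyH
    -- `x⁻¹ H x ≤ N`
    have hKle : conjSub x⁻¹ H ≤ nrm P := by
      intro g hg
      rw [mem_conjSub, inv_inv] at hg
      have h2 : x * g * x⁻¹ ∈ conjSub x (nrm P) := by
        have : x * g * x⁻¹ ∈ nrm P ⊓ conjSub x (nrm P) := by rw [hyH]; exact hg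
        exact (Subgroup.mem_inf.1 this).2
      rw [mem_conjSub] at h2
      have e : x⁻¹ * (x * g * x⁻¹) * x = g := by group
      rwa [e] at h2
    have hKcard : Nat.card ↥(conjSub x⁻¹ H) = q := by
      rw [← hH.card]
      unfold conjSub
      exact Nat.card_congr
        (H.equivMapOfInjective _ (MulAut.conj x⁻¹).injective).symm.toEquiv
    have hK : Compl P q (conjSub x⁻¹ H) := compl_of_le hS _ hKle hKcard
    obtain ⟨y', hy', hy'K⟩ := compl_conj hS hH hK
    refine ⟨x * y', ?_, y'⁻¹, Subgroup.inv_mem _ hy', by group⟩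
    rw [Subgroup.mem_normalizer_iff]
    intro k
    have h3 : y' * k * y'⁻¹ ∈ conjSub x⁻¹ H ↔ y' * k * y'⁻¹ ∈ conjSub y' H := by rw [hy'K]
    rw [mem_conjSub, mem_conjSub, inv_inv] at h3
    have e1 : x * (y' * k * y'⁻¹) * x⁻¹ = x * y' * k * (x * y')⁻¹ := by group
    have e2 : y'⁻¹ * (y' * k * y'⁻¹) * y' = k := by group
    rw [e1, e2] at h3
    exact h3.symm

end Cfsg.Agent.Lib.Helper13.B43
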