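import Mathlib
import Cfsg.Agent.Lib.helper7.BR.Defs
import Cfsg.Agent.Lib.Helper13.B43.Defs
import Cfsg.Agent.Lib.Helper13.B43.LSTR1
import Cfsg.Agent.Lib.Helper13.B43.LSTR3core

/-!
# Project B43 (generalised from project BR), piece LSTR3 : `π(h) = |L| / q` for `h ∈ H ∖ 1`
-/

set_option autoImplicit false
set_option linter.unusedVariables false
set_option linter.unusedSectionVars false

namespace Cfsg.Agent.Lib.Helper13.B43

open Classical
open Cfsg.Agent.Lib.Helper25
open Cfsg.Agent.Lib.helper7.BR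
open Cfsg.Agent.Lib.helper7

universe u

variable {G : Type u} [Group G] [Fintype G] {p : ℕ} [Fact p.Prime] {P : Sylow p G} {q t n v : ℕ}
  {Xp Xm Y : Finset (Cfsg.IrrCharacter G)} {H : Subgroup G}

/-- LSTR3 : `π(h) = |L| / q` for `h ∈ H ∖ 1` (PERM1', LSTR2 and its converse, `|L P| = |L| p`). -/
theorem permChar_H [Fintype (Cfsg.IrrCharacter G)] (hS : Setting2 p P q t n)
    (hD : CharData2 p P q t n v Xp Xm Y) (hH : Compl P q H) (h : G) (hh : h ∈ H) (hh1 : h ≠ 1) :
    permChar P h = (Nat.card ↥(nrmH H) : ℂ) / (q : ℂ) :=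
  brlstr3_core hS hH h hh hh1 (fun x hx hxP => nrmH_inf_P hS hH x hx hxP)
    (fun x hx => fix_decomp hS hD hH h hh hh1 x hx)

end Cfsg.Agent.Lib.Helper13.B43
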