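import Mathlib
import Cfsg.Agent.Lib.helper7.BR.Defs
import Cfsg.Agent.Lib.Helper13.B43.Defs
import Cfsg.Agent.Lib.Helper27.BRPERM1

/-!
# Project B43 (generalised from project BR), piece PERM2 : `π = 1` on `P ∖ 1`
-/

set_option autoImplicit false
set_option linter.unusedVariables false
set_option linter.unusedSectionVars false

namespace Cfsg.Agent.Lib.Helper13.B43

open Classical
open Cfsg.Agent.Lib.Helper25
open Cfsg.Agent.Lib.helper7.BR
open Cfsg.Agent.Lib.helper7

universe u

variable {G : Type u} [Group G] [Fintype G] {p : ℕ} [Fact p.Prime] {P : Sylow p G} {q t n v : ℕ}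
  {Xp Xm Y : Finset (Cfsg.IrrCharacter G)} {H : Subgroup G}

/-- every element of a subgroup of prime order is a power of a given non-trivial element. -/
theorem brperm2_pow (hP : Nat.card ↥(P : Subgroup G) = p) {x z : G} (hx : x ∈ (P : Subgroup G))
    (hx1 : x ≠ 1) (hz : z ∈ (P : Subgroup G)) : ∃ k : ℤ, z = x ^ k := by
  have hne : (⟨x, hx⟩ : ↥(P : Subgroup G)) ≠ 1 := by
    intro h
    exact hx1 (congrArg Subtype.val h)
  have := mem_zpowers_of_prime_card hP hne (g' := ⟨z, hz⟩)
  obtain ⟨k, hk⟩ := Subgroup.mem_zpowers_iff.mp this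
  refine ⟨k, ?_⟩
  have := congrArg Subtype.val hk
  simpa using this.symm

/-- a `p`-element of `N_G(P)` lies in `P`. -/
theorem brperm2_mem (P : Sylow p G) {y : G} (hy : y ∈ nrm P) {n : ℕ} (hyn : y ^ p ^ n = 1) :
    y ∈ (P : Subgroup G) := by
  have hpg : IsPGroup p ↥(Subgroup.zpowers y) := by
    intro z
    obtain ⟨k, hk⟩ := Subgroup.mem_zpowers_iff.mp z.2
    refine ⟨n, Subtype.ext ?_⟩
    rw [Subgroup.coe_pow, ← hk, Subgroup.coe_one, ← zpow_natCast, ← zpow_mul, mul_comm, zpow_mul,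
      zpow_natCast, hyn, one_zpow]
  have h := hpg.inf_normalizer_sylow P
  have hmem : y ∈ Subgroup.zpowers y ⊓ Subgroup.normalizer ((P : Subgroup G) : Set G) :=
    ⟨Subgroup.mem_zpowers y, hy⟩
  exact (h.le hmem).2

/-- `x⁻¹ … x`-membership: `g⁻¹ x g ∈ N ↔ g ∈ N` for `x ∈ P ∖ 1`. -/
theorem brperm2_iff (hS : Setting2 p P q t n) (x : G) (hx : x ∈ (P : Subgroup G)) (hx1 : x ≠ 1)
    (g : G) : g⁻¹ * x * g ∈ nrm P ↔ g ∈ nrm P := by
  constructor
  · intro hy
    -- `y = g⁻¹ x g` is a `p`-element of `N`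
    have hxp : x ^ p = 1 := by
      have := pow_card_eq_one' (G := ↥(P : Subgroup G)) (x := ⟨x, hx⟩)
      rw [hS.cardP] at this
      exact congrArg Subtype.val this
    have hyp : (g⁻¹ * x * g) ^ p ^ 1 = 1 := by
      rw [pow_one]
      have : (g⁻¹ * x * g) ^ p = g⁻¹ * x ^ p * g := by
        have := conj_pow (a := g⁻¹) (b := x) (i := p)
        simpa using this
      rw [this, hxp]; group
    have hyP : g⁻¹ * x * g ∈ (P : Subgroup G) := brperm2_mem P hy hyp
    have hy1 : g⁻¹ * x * g ≠ 1 := by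
      intro h
      apply hx1
      have : x = g * (g⁻¹ * x * g) * g⁻¹ := by group
      rw [this, h]; group
    -- `g⁻¹ ∈ N`
    have hginv : g⁻¹ ∈ nrm P := by
      rw [Subgroup.mem_normalizer_iff]
      intro z
      constructor
      · intro hz
        obtain ⟨k, rfl⟩ := brperm2_pow hS.cardP hx hx1 hz
        have : g⁻¹ * x ^ k * g⁻¹⁻¹ = (g⁻¹ * x * g) ^ k := by
          have := conj_zpow (a := g⁻¹) (b := x) (i := k)
          simpa using this.symm
        rw [this]
        exact Subgroup.zpow_mem _ hyP k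
      · intro hz
        obtain ⟨k, hk⟩ := brperm2_pow hS.cardP hyP hy1 hz
        have : g⁻¹ * z * g⁻¹⁻¹ = g⁻¹ * x ^ k * g⁻¹⁻¹ := by
          rw [hk]
          have := conj_zpow (a := g⁻¹) (b := x) (i := k)
          simpa using this
        have hz' : z = x ^ k := by
          have h2 := mul_left_cancel (mul_right_cancel this)
          exact h2
        rw [hz']
        exact Subgroup.zpow_mem _ hx k
    have := Subgroup.inv_mem _ hginv
    simpa using this
  · intro hg
    have hginv : g⁻¹ ∈ nrm P := Subgroup.inv_mem _ hg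
    have := (Subgroup.mem_normalizer_iff.mp hginv x).mp hx
    have h2 : g⁻¹ * x * g⁻¹⁻¹ = g⁻¹ * x * g := by rw [inv_inv]
    rw [h2] at this
    exact Subgroup.le_normalizer this

/-- PERM2 : `π = 1` on `P ∖ 1` (an element of order `p` of `N` lies in `P`; `x ∈ P ∩ g P g⁻¹` ⟹ `g ∈ N`). -/
theorem permChar_P (hS : Setting2 p P q t n) (x : G) (hx : x ∈ (P : Subgroup G)) (hx1 : x ≠ 1) :
    permChar P x = 1 := by
  rw [permChar_apply]
  have hcard : Nat.card {g : G // g⁻¹ * x * g ∈ nrm P} = Nat.card ↥(nrm P) := by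
    apply Nat.card_congr
    exact Equiv.subtypeEquivRight (fun g => brperm2_iff hS x hx hx1 g)
  rw [hcard]
  have hne : (Nat.card ↥(nrm P) : ℂ) ≠ 0 := by exact_mod_cast Nat.card_pos.ne'
  exact inv_mul_cancel₀ hne

end Cfsg.Agent.Lib.Helper13.B43
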