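import Mathlib
import Cfsg.Agent.Lib.helper7.BR.Defs
import Cfsg.Agent.Lib.Helper13.B43.Defs
import Cfsg.Agent.Lib.Helper13.B43.DEC4
import Cfsg.Agent.Lib.Helper13.B43.LSTR3
import Cfsg.Agent.Lib.Helper13.B43.LSTR4core

/-!
# Project B43 (generalised from project BR), piece LSTR4 : `|L| = (n + 1) q`
-/

set_option autoImplicit false
set_option linter.unusedVariables false
set_option linter.unusedSectionVars false

namespace Cfsg.Agent.Lib.Helper13.B43

open Classical
open Cfsg.Agent.Lib.Helper25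
open Cfsg.Agent.Lib.helper7.BR
open Cfsg.Agent.Lib.helper7

universe u

variable {G : Type u} [Group G] [Fintype G] {p : ℕ} [Fact p.Prime] {P : Sylow p G} {q t n v : ℕ}
  {Xp Xm Y : Finset (Cfsg.IrrCharacter G)} {H : Subgroup G}

/-- LSTR4 : `|L| = (n + 1) q`. -/
theorem card_nrmH [Fintype (Cfsg.IrrCharacter G)] (hS : Setting2 p P q t n)
    (hD : CharData2 p P q t n v Xp Xm Y) (hH : Compl P q H) : Nat.card ↥(nrmH H) = (n + 1) * q :=
  brlstr4_core hS hH (perm_decomp hS hD).2.1
    (fun h hh hh1 => permChar_H hS hD hH h hh hh1)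

end Cfsg.Agent.Lib.Helper13.B43
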