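import Mathlib
import Cfsg.Agent.Lib.helper7.BR.Defs
import Cfsg.Agent.Lib.Helper13.B43.Defs
import Cfsg.Agent.Lib.Helper13.B43.TWO
import Cfsg.Agent.Lib.Helper13.B43.LSTR4

/-!
# Project B43, piece FINAL : `v = 1` in the branch `ε = -1`

`|N_G(H)| = (n + 1) q = v t q` divides `|G| = p q t (v p - q)`, so `v ∣ p (v p - q)`, `v ∣ p q`; `v ∣ q - 1`, hence
`v ∣ p`, and `v < p`.
-/

set_option autoImplicit false
set_option linter.unusedVariables false
set_option linter.unusedSectionVars false

namespace Cfsg.Agent.Lib.Helper13.B43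

open Classical
open Cfsg.Agent.Lib.Helper25
open Cfsg.Agent.Lib.helper7.BR

universe u

variable {G : Type u} [Group G] [Fintype G] {p : ℕ} [Fact p.Prime] {P : Sylow p G} {q t n v : ℕ}
  {Xp Xm Y : Finset (Cfsg.IrrCharacter G)} {H : Subgroup G}

/-- the arithmetic of FINAL -/
theorem b43final_arith (p q t n v c : ℕ) (hp : p.Prime) (hqt : q * t = p - 1) (ht : 2 ≤ t) (hq : 2 ≤ q)
    (hv : 1 ≤ v) (hnv : n + 1 = v * t) (hcount : v * (1 + c * t) + 1 = q)
    (hdvd : (n + 1) * q ∣ p * q * (1 + n * p)) : v = 1 := by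
  have hp2 := hp.two_le
  have hpe : p = q * t + 1 := by omega
  have ht0 : 0 < t := by omega
  have hq0 : 0 < q := by omega
  -- `1 + n p = t (v p - q)`
  have hqvp : q ≤ v * p := by
    have : 1 * p ≤ v * p := Nat.mul_le_mul_right p hv
    have : q * 1 ≤ q * t := Nat.mul_le_mul_left q (by omega)
    omega
  have hidx : 1 + n * p = t * (v * p - q) := by
    have h1 : (n + 1) * p = v * t * p := by rw [hnv]
    have h2 : t * (v * p - q) + t * q = t * (v * p) := by
      rw [← Nat.mul_add, Nat.sub_add_cancel hqvp]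
    have h3 : t * q = p - 1 := by rw [Nat.mul_comm]; exact hqt
    have h4 : (n + 1) * p = n * p + p := by ring
    have h5 : t * (v * p) = v * t * p := by ring
    omega
  -- cancel `q` and `t`
  rw [hidx, hnv] at hdvd
  have h1 : v * t * q ∣ p * q * (t * (v * p - q)) := hdvd
  have h2 : p * q * (t * (v * p - q)) = (p * (v * p - q)) * (t * q) := by ring
  have h3 : v * t * q = v * (t * q) := by ring
  rw [h2, h3] at h1
  have h4 : v ∣ p * (v * p - q) := by
    have htq : 0 < t * q := Nat.mul_pos ht0 hq0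
    exact Nat.dvd_of_mul_dvd_mul_right htq h1
  -- `v ∣ p q`
  have h5 : v ∣ p * q := by
    have h6 : p * (v * p - q) + p * q = v * (p * p) := by
      rw [← Nat.mul_add, Nat.sub_add_cancel hqvp]; ring
    have h7 : v ∣ p * (v * p - q) + p * q := by rw [h6]; exact Dvd.intro _ rfl
    exact (Nat.dvd_add_right h4).1 h7
  -- `v ∣ p`
  have h8 : v ∣ p := by
    have h9 : p * q = p * (v * (1 + c * t)) + p := by rw [← hcount]; ring
    rw [h9] at h5
    have h10 : v ∣ p * (v * (1 + c * t)) := ⟨p * (1 + c * t), by ring⟩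
    exact (Nat.dvd_add_right h10).1 h5
  rcases (Nat.dvd_prime hp).1 h8 with h | h
  · exact h
  · exfalso
    have h11 : v * 1 ≤ v * (1 + c * t) := Nat.mul_le_mul_left v (by omega)
    have h12 : q * 1 ≤ q * t := Nat.mul_le_mul_left q (by omega)
    omega

/-- FINAL : `v = 1` -/
theorem v_eq_one [Fintype (Cfsg.IrrCharacter G)] (hS : Setting2 p P q t n)
    (hD : CharData2 p P q t n v Xp Xm Y) : v = 1 := by
  obtain ⟨H, hH⟩ := exists_compl hS hD
  have hL := card_nrmH hS hD hH
  have hdvd : Nat.card ↥(nrmH H) ∣ Nat.card G := Subgroup.card_subgroup_dvd_card _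
  have hG : Nat.card G = p * q * (1 + n * p) := by
    rw [← Subgroup.card_mul_index (nrm P), hS.cardN, hS.index]
  rw [hL, hG] at hdvd
  exact b43final_arith p q t n v Xp.card hS.prime hS.qt hS.ht hS.hq hD.hv hD.nv hD.count hdvd

end Cfsg.Agent.Lib.Helper13.B43
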