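import Mathlib
import Cfsg.Agent.S4496
import Cfsg.Agent.Lib.Helper29.ScGroup
import Cfsg.Agent.Lib.helper7.BR.Defs
import Cfsg.Agent.Lib.helper7.BR.Main
import Cfsg.Agent.Lib.Helper13.B43.Defs
import Cfsg.Agent.Lib.Helper13.B43.FRONT
import Cfsg.Agent.Lib.Helper18.B43T1

/-!
# Project B43, piece MAIN : Brauer's theorem (S0996)
-/

set_option autoImplicit false
set_option linter.unusedVariables false
set_option linter.unusedSectionVars false
set_option linter.style.haveILetI false

namespace Cfsg.Agent.Lib.Helper13.B43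

open Classical
open Cfsg.Agent.Lib.Helper25
open Cfsg.Agent.Lib.helper7.BR

universe u

/-- the order bound `|G| < p³` -/
theorem b43main_bound {G : Type u} [Group G] [Fintype G] (hperf : commutator G = ⊤) (p : ℕ)
    [Fact p.Prime] (z : G) (hz : orderOf z = p)
    (hC : Subgroup.centralizer ({z} : Set G) = Subgroup.zpowers z)
    (hn : 2 * Nat.card (Sylow p G) < (p + 1) * (p + 2)) :
    ∃ P : Sylow p G, ¬ (P : Subgroup G).Normal ∧ p ∣ Nat.card G ∧ 3 ≤ p ∧ Nat.card G < p ^ 3 := by
  have hpp := (Fact.out : p.Prime)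
  have hp2 := hpp.two_le
  obtain ⟨P, hPz⟩ := Cfsg.Agent.Lib.Helper29.scg_exists_sylow hz hC
  have hP : Nat.card ↥(P : Subgroup G) = p := by
    rw [hPz]; exact Cfsg.Agent.Lib.Helper29.scg_card hz
  have hcen : cen P = (P : Subgroup G) := by
    change Subgroup.centralizer ((P : Subgroup G) : Set G) = (P : Subgroup G)
    rw [hPz]
    exact Cfsg.Agent.Lib.Helper29.scg_centralizer_P hC
  have hz1 : z ≠ 1 := by
    intro h
    rw [h, orderOf_one] at hz
    omega
  -- `P` is not normal
  have hPn : ¬ (P : Subgroup G).Normal := by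
    intro hnorm
    haveI := hnorm
    have h1 := (Cfsg.Agent.S4496.result p hpp z hz hC (P : Subgroup G)).1
      (by rw [hP])
    rw [hperf] at h1
    have htop : (P : Subgroup G) = ⊤ := top_le_iff.mp h1
    have hcomm : ∀ a b : G, a * b = b * a := by
      intro a b
      have ha : a ∈ Subgroup.zpowers z := by rw [← hPz, htop]; exact Subgroup.mem_top a
      have hb : b ∈ Subgroup.zpowers z := by rw [← hPz, htop]; exact Subgroup.mem_top b
      exact Cfsg.Agent.Lib.Helper29.scg_comm ha hb
    have hbot : commutator G = ⊥ := by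
      rw [commutator_def, Subgroup.commutator_eq_bot_iff_le_centralizer]
      intro a _
      rw [Subgroup.mem_centralizer_iff]
      intro b _
      exact hcomm b a
    rw [hbot] at hperf
    have : z ∈ (⊥ : Subgroup G) := by rw [hperf]; exact Subgroup.mem_top z
    exact hz1 (Subgroup.mem_bot.mp this)
  refine ⟨P, hPn, ?_, ?_⟩
  · have := Subgroup.card_subgroup_dvd_card (P : Subgroup G)
    rwa [hP] at this
  suffices hmain : 3 ≤ p ∧ Nat.card G < p ^ 3 from hmain
  obtain ⟨q, w, n, hqdvd, hq1, hw, hn1, hrel, hcC, hcN, hidx, hcidx, hcG⟩ := order_formula P hP hPn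
  have hw1 : w = 1 := by
    rw [hcen, hP] at hcC
    have : p * 1 = p * w := by rw [mul_one]; exact hcC
    exact (Nat.eq_of_mul_eq_mul_left hpp.pos this).symm
  subst hw1
  rw [mul_one] at hcN hcG
  have hq2 : 2 ≤ q := by
    have := relIndex_ne_one hperf P hP
    rw [hrel] at this
    omega
  -- the bound on `n`
  have hsyl : Nat.card (Sylow p G) = 1 + n * p := by
    rw [Sylow.card_eq_index_normalizer P]
    exact hidx
  rw [hsyl] at hn
  have hn2 : 2 * n ≤ p + 2 := by
    by_contra hcon
    push Not at hcon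
    have h1 : (p + 3) * p ≤ 2 * n * p := Nat.mul_le_mul_right p (by omega)
    nlinarith
  have hqle : q ≤ p - 1 := by
    rcases Nat.eq_zero_or_pos (p - 1) with h0 | h0
    · rw [h0] at hqdvd
      have : p = 1 := by omega
      omega
    · exact Nat.le_of_dvd h0 hqdvd
  refine ⟨by omega, ?_⟩
  -- `n = 1` or `q (n + 1) = p - 1`
  have hkey : n = 1 ∨ q * (n + 1) = p - 1 := by
    by_cases hfull : q = p - 1
    · left
      exact top_case hperf P hP hcen (by rw [hrel, hfull]) n hidx hn1 hn2
    · exact mid_case hperf P hP hcen q n hrel hq2 (by omega) hqdvd hcN hidx hcidx hcG hn1 hn2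
  rw [hcG]
  rcases hkey with h | h
  · subst h
    have h1 : q * (1 + 1 * p) ≤ (p - 1) * (1 + 1 * p) := Nat.mul_le_mul_right _ hqle
    have h2 : (p - 1) * (1 + 1 * p) + 1 = p * p := by
      obtain ⟨k, rfl⟩ : ∃ k, p = k + 1 := ⟨p - 1, by omega⟩
      simp only [Nat.add_sub_cancel]
      ring
    have h3 : p * q * (1 + 1 * p) = p * (q * (1 + 1 * p)) := by ring
    rw [h3, pow_succ, pow_two]
    have : p * (q * (1 + 1 * p)) < p * (p * p) := by
      apply Nat.mul_lt_mul_of_pos_left _ hpp.pos
      omega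
    linarith
  · -- `q (1 + n p) = q + (p - 1 - q) p < p²`
    have h1 : q * (1 + n * p) + q * p = q + (p - 1) * p := by
      have : q * (1 + n * p) + q * p = q + (q * (n + 1)) * p := by ring
      rw [this, h]
    have h2 : (p - 1) * p + p = p * p := by
      obtain ⟨k, rfl⟩ : ∃ k, p = k + 1 := ⟨p - 1, by omega⟩
      simp only [Nat.add_sub_cancel]
      ring
    have h3 : q * 2 ≤ q * p := Nat.mul_le_mul_left q hp2
    have h4 : q * (1 + n * p) < p * p := by omega
    have h5 : p * q * (1 + n * p) = p * (q * (1 + n * p)) := by ring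
    rw [h5, pow_succ, pow_two]
    have : p * (q * (1 + n * p)) < p * (p * p) := Nat.mul_lt_mul_of_pos_left h4 hpp.pos
    linarith

/-- Brauer's theorem (S0996) for `G : Type u` -/
theorem b43_main {G : Type u} [Group G] [Finite G] (hperf : commutator G = ⊤) (p : ℕ)
    [Fact p.Prime] (z : G) (hz : orderOf z = p)
    (hC : Subgroup.centralizer ({z} : Set G) = Subgroup.zpowers z)
    (hn : 2 * Nat.card (Sylow p G) < (p + 1) * (p + 2)) :
    (∃ (F : Type) (_ : Field F) (_ : Fintype F), Fintype.card F = p ∧ 3 < p ∧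
      Nonempty (G ≃* Matrix.ProjectiveSpecialLinearGroup (Fin 2) F)) ∨
    (∃ (m : ℕ) (F : Type) (_ : Field F) (_ : Fintype F), Fintype.card F = 2 ^ m ∧ p = 2 ^ m + 1 ∧
      3 < p ∧ Nonempty (G ≃* Matrix.ProjectiveSpecialLinearGroup (Fin 2) F)) := by
  haveI : Fintype G := Fintype.ofFinite G
  have hpp := (Fact.out : p.Prime)
  obtain ⟨P, hPn, hdvd, hp3, hbig⟩ := b43main_bound hperf p z hz hC hn
  -- no normal subgroup of order 2
  have h2 : ∀ N : Subgroup G, N.Normal → Nat.card N ≠ 2 := by
    intro N hN hcard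
    haveI := hN
    have h1 := (Cfsg.Agent.S4496.result p hpp z hz hC N).2 (by
      rw [hcard]
      intro hdv
      have := Nat.le_of_dvd (by norm_num) hdv
      omega)
    have h3 := h1.2.1
    rw [hcard, Nat.mod_eq_of_lt (by omega)] at h3
    omega
  rcases Cfsg.Agent.Lib.helper7.BR.br_main hperf p hdvd hbig P hPn h2 with h | ⟨m, F, i1, i2, h1, h3, h4, _, h5⟩
  · exact Or.inl h
  · exact Or.inr ⟨m, F, i1, i2, h1, h3, h4, h5⟩

end Cfsg.Agent.Lib.Helper13.B43
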